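import Cfsg.Agent.Lib.CI2.Cover
import Cfsg.Agent.Lib.Quad.Offender
import Cfsg.Agent.Lib.UT.Final
import Cfsg.Agent.Lib.FT.GW.Cover

/-!
# Odd central extensions of `SU(3, 2ⁿ)` and `PSU(3, 2ⁿ)`
-/

set_option autoImplicit false

namespace Cfsg.Lib.CI2
open Subgroup Cfsg.Lib Cfsg.Lib.FT Cfsg.Lib.Suz Matrix
open scoped commutatorElement MatrixGroups

section
variable {Y G : Type*} [Group Y] [Finite Y] [Group G] {π : Y →* G}

theorem commutator_inf_ker_monomial (hs : Function.Surjective π) (hc : π.ker ≤ center Y)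
    (ho : Odd (Nat.card π.ker)) {a s r : G} (hs2 : s * s = 1) (hr2 : r * r = 1) {T : Subgroup G}
    (hab : Commute a (s * a * s⁻¹)) (hT : T = zpowers a ⊔ zpowers (s * a * s⁻¹)) (hw : s * r ∈ N[T])
    (hz : ∀ t ∈ T, Commute t (s * r) → t ∈ center G) :
    ⁅(T ⊔ zpowers (s * r)).comap π, (T ⊔ zpowers (s * r)).comap π⁆ ⊓ π.ker = ⊥ := by
  obtain ⟨a, rfl⟩ := hs a
  obtain ⟨s, rfl⟩ := hs s
  obtain ⟨r, rfl⟩ := hs r
  have h1 : ∀ c ∈ π.ker, c ^ 2 = 1 → c = 1 := fun c hc h => (pow_eq_one_iff_of_coprime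
    (Nat.coprime_two_left.2 ho)).1 ⟨h, congrArg Subtype.val (pow_card_eq_one' (x := (⟨c, hc⟩ : π.ker)))⟩
  have h2 : ∀ x y, Commute (π x) (π y) → ⁅x, y⁆ ∈ π.ker := fun x y h => by
    rw [MonoidHom.mem_ker, map_commutatorElement, h.commutator_eq]
  have h3 : ∀ x, π x * π x = 1 → ∀ y, x * x * y = y * (x * x) := fun x h y =>
    (mem_center_iff.1 (hc (by rwa [MonoidHom.mem_ker, map_mul])) y).symm
  have h4 : ∀ x y, π y * π y = 1 → π x ∈ center G → Commute x y := fun x y h hx => by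
    have h5 := h2 x y (mem_center_iff.1 hx _).symm
    refine commutatorElement_eq_one_iff_commute.1 (h1 _ h5 ?_)
    calc _ = ⁅x, y⁆ * (y * ⁅x, y⁆) * y⁻¹ := by rw [mem_center_iff.1 (hc h5) y, sq]; group
      _ = x * (y * y) * x⁻¹ * (y * y)⁻¹ := by simp only [commutatorElement_def]; group
      _ = 1 := by rw [← h3 y h]; group
  have h5 : a * (s * a * s⁻¹) = s * a * s⁻¹ * a := by
    have h5 := h2 a (s * a * s⁻¹) (by simpa using hab)
    refine commutatorElement_eq_one_iff_mul_comm.1 (h1 _ h5 ?_)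
    calc _ = s * ⁅a, s * a * s⁻¹⁆ * s⁻¹ * ⁅a, s * a * s⁻¹⁆ := by
          rw [mem_center_iff.1 (hc h5) s, sq]; group
      _ = s * a * s⁻¹ * (s * s * a) * (s * s)⁻¹ * (s * a * s⁻¹)⁻¹ * (s * s * a⁻¹) * (s * s)⁻¹ *
          ⁅a, s * a * s⁻¹⁆ := by simp only [commutatorElement_def]; group
      _ = 1 := by rw [h3 s hs2, h3 s hs2]; simp only [commutatorElement_def]; group
  have h6 : IsMulCommutative (T.comap π) := (le_centralizer_iff_isMulCommutative).1
    (commutator_eq_bot_iff_le_centralizer.1 (commutator_comap_eq_bot hs hc h5 (by simpa using hT)))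
  have h7 : s * r ∈ N[T.comap π] := le_normalizer_comap π (by rwa [mem_comap, map_mul])
  have h8 : (T ⊔ zpowers (π s * π r)).comap π = closure (insert (s * r) (T.comap π)) := by
    rw [← map_mul, ← MonoidHom.map_zpowers, ← map_comap_eq_self_of_surjective hs T, ← Subgroup.map_sup,
      comap_map_eq, comap_map_eq, sup_right_comm, Set.insert_eq, Subgroup.closure_union,
      Subgroup.closure_eq, sup_comm,
      zpowers_eq_closure]
  rw [h8, eq_bot_iff]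
  refine (inf_le_inf_right _ (GW.commutator_closure_le (N := ⁅T.comap π, zpowers (s * r)⁆) ?_ ?_)).trans
    fun x hx => ?_
  · rintro x (rfl | hx)
    · exact normalizer_commutator_ge_right _ _ (mem_zpowers _)
    · exact normalizer_commutator_ge_left _ _ hx
  · rintro x (rfl | hx) y (rfl | hy)
    · simp
    · rw [← commutatorElement_inv]; exact inv_mem (commutator_mem_commutator hy (mem_zpowers _))
    · exact commutator_mem_commutator hx (mem_zpowers _)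
    · rw [commutatorElement_eq_one_iff_mul_comm.2 (comm_of_isMulCommutative h6 hx hy)]; exact one_mem _
  · obtain ⟨t, ht, rfl⟩ := (Quad.mem_commutator_zpowers_iff h6 h7).1 hx.1
    have h9 := hz _ ht (commutatorElement_eq_one_iff_commute.1 (by simpa using hx.2))
    exact ((h4 _ _ hs2 h9).mul_right (h4 _ _ hr2 h9)).commutator_eq

end

section
variable {F : Type*} [Field F] [Fintype F] {n : ℕ}

theorem su_exists_stab (hF : Fintype.card F = 4 ^ n) : ∃ H : Subgroup (SU 3 F (2 ^ n)),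
    H.index = (2 ^ n) ^ 3 + 1 ∧ ∃ χ : H →* Fˣ, IsPGroup 2 χ.ker := by
  obtain ⟨P⟩ : Nonempty (Sylow 2 (PSU 3 F (2 ^ n))) := inferInstance
  have hP := (UT.isUT_psu hF P).card
  obtain ⟨h2, τ, hq, hτ, hω, -⟩ := h9_u3_field hF
  have := Fact.mk hτ
  obtain ⟨e⟩ := h9_u3_sylow_psu_equiv h2 hq hω P
  obtain ⟨cj, hcj, hr⟩ := exists_cj h2 hq hω
  rw [← pow_mul, mul_comm, pow_mul, show 2 ^ 3 = 8 from rfl, ← hP, Nat.card_congr e.toEquiv]
  choose U hU using fun x : U3S τ => (hr _).2 (isUJ_uJ h2 x)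
  obtain ⟨T, hT⟩ := (hr _).2 (isUJ_tJ h2)
  have e : ∀ A : Matrix (Fin 3) (Fin 3) F, ![0, 0, 1] ᵥ* A = A 2 := fun A => by
    ext i; simp [vecMul, dotProduct, Fin.sum_univ_three]
  refine exists_stab (SpecialLinearGroup.coeMonoidHom.comp cj) ![0, 0, 1] vJ 0 rfl (by simp)
    (fun _ => rfl) (fun x z h => U3S.ext (τ.injective (congrFun h 1)) (congrFun h 2))
    (fun x => ⟨T * U x, ?_⟩) (fun A => ?_) fun A h => ?_
  · show _ ᵥ* (cj (T * U x)).1 = _
    rw [map_mul, hT, hU]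
    show _ ᵥ* ((tJ h2).1 * (uJ x).1) = _
    rw [← vecMul_vecMul, vec_tJ]
    simpa [vJ] using vJ_uJ 1 x
  · have hA := (hr _).1 ⟨A, rfl⟩
    by_cases h : (cj A).1 2 0 = 0
    · obtain ⟨hc, x, e1⟩ := eq_dJ_mul h2 hA h
      refine Or.inl ⟨(cj A).1 2 2, ?_⟩
      show _ ᵥ* (cj A).1 = _
      nth_rewrite 1 [e1]
      show _ ᵥ* ((dJ τ _ hc).1 * (uJ x).1) = _
      rw [← vecMul_vecMul, ← e_uJ x, ← smul_vecMul, e_uJ]
      congr 1
      ext i; fin_cases i <;> simp [dJ, vecMul, dotProduct, Fin.sum_univ_three]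
    · obtain ⟨x, e1⟩ := exists_vJ h2 hA h
      exact Or.inr ⟨x, _, (e _).trans e1⟩
  · have h4 : (cj A).1 2 = _ := (e _).symm.trans h
    obtain ⟨hc, x, e1⟩ := eq_dJ_mul h2 ((hr _).1 ⟨A, rfl⟩) (congrFun h4 0)
    have h5 : (cj A).1 2 2 = 1 := congrFun h4 2
    simp only [h5] at e1
    let φ : U3S τ →* SL(3, F) := MonoidHom.mk' uJ fun x y => Subtype.ext (by
      show _ = (uJ x).1 * (uJ y).1
      ext i j
      fin_cases i <;> fin_cases j <;> simp [uJ, Matrix.mul_apply, Fin.sum_univ_three] <;> ring)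
    refine hcj ?_
    rw [map_pow, map_one, e1, show dJ τ 1 one_ne_zero = 1 from Subtype.ext (by
      ext i j; fin_cases i <;> fin_cases j <;> simp [dJ]), one_mul]
    exact (map_pow φ x 4).symm.trans (by rw [U3S.pow_four h2, map_one])

omit [Fintype F] in
theorem scalar_of_comm {A : Matrix (Fin 3) (Fin 3) F} {z : F} (h0 : z ≠ 0) (h1 : z * z ≠ 1)
    (e1 : diagonal ![z, 1, z⁻¹] * A = A * diagonal ![z, 1, z⁻¹])
    (e2 : !![0, 1, 0; 1, 0, 0; 0, 0, 1] * A = A * !![0, 1, 0; 1, 0, 0; 0, 0, 1])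
    (e3 : !![1, 0, 0; 0, 0, 1; 0, 1, 0] * A = A * !![1, 0, 0; 0, 0, 1; 0, 1, 0]) :
    scalar (Fin 3) (A 0 0) = A := by
  have e2 := congrFun (congrFun e2 0) 1
  have e3 := congrFun (congrFun e3 1) 2
  simp [Matrix.mul_apply, Fin.sum_univ_three] at e2 e3
  ext i j
  have := congrFun (congrFun e1 i) j
  rw [diagonal_mul, mul_diagonal] at this
  fin_cases i <;> fin_cases j <;> simp [e2, e3] at this ⊢ <;> grind

set_option maxHeartbeats 400000 in
theorem su_exists_torus (hF : Fintype.card F = 4 ^ n) : ∃ (a s r : SU 3 F (2 ^ n)) (T : Subgroup (SU 3 F (2 ^ n))),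
    s * s = 1 ∧ r * r = 1 ∧ Commute a (s * a * s⁻¹) ∧ T = zpowers a ⊔ zpowers (s * a * s⁻¹) ∧ s * r ∈ N[T] ∧
    (∀ t ∈ T, Commute t (s * r) → t ∈ center (SU 3 F (2 ^ n))) ∧
    Nat.card ↥(T ⊔ zpowers (s * r)) = (2 ^ n + 1) ^ 2 * 3 ∧ Nat.card (center (SU 3 F (2 ^ n))) ∣ 3 := by
  classical
  obtain ⟨h2, τ, hq, hτ, hω, -⟩ := h9_u3_field hF
  have := Fact.mk hτ
  let μ := (powMonoidHom (2 ^ n + 1) : Fˣ →* Fˣ).ker
  have hμ : Nat.card μ = 2 ^ n + 1 := by
    rw [IsCyclic.card_powMonoidHom_ker, Nat.card_units, Nat.card_eq_fintype_card, hF,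
      show 4 = 2 ^ 2 from rfl, ← pow_mul, mul_comm, pow_mul, ← one_pow 2, Nat.sq_sub_sq, one_pow]
    exact Nat.gcd_eq_right (dvd_mul_right _ _)
  have h1 : ∀ x : μ, x.1.1 * τ x.1.1 = 1 := fun x => by
    rw [hq, ← pow_succ']; exact congrArg Units.val x.2
  obtain ⟨δ, hδ⟩ : ∃ δ : μ × μ →* SU 3 F (2 ^ n),
      ∀ p, (δ p).1.1 = diagonal ![p.1.1.1, p.2.1.1, ((p.1 * p.2)⁻¹).1.1] := ⟨MonoidHom.mk' (fun p =>
    ⟨⟨diagonal ![p.1.1.1, p.2.1.1, ((p.1 * p.2)⁻¹).1.1], by simp [Fin.prod_univ_three]; field_simp⟩,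
      (mem_SU_iff hq _).2 (by
        have := h1 p.1; have := h1 p.2; have := h1 (p.1 * p.2)⁻¹
        ext i j; fin_cases i <;> fin_cases j <;> simp_all [Matrix.mul_apply, Fin.sum_univ_three])⟩)
    fun p p' => Subtype.ext (Subtype.ext (.trans (congrArg diagonal (by
      ext i; fin_cases i <;> simp; ring)) (diagonal_mul_diagonal _ _).symm)), fun _ => rfl⟩
  have hinj : Function.Injective δ := fun p p' h => by
    have h := congrArg (·.1.1) h
    simp only [hδ] at h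
    exact Prod.ext (Subtype.ext (Units.ext (congrFun (diagonal_injective h) 0)))
      (Subtype.ext (Units.ext (congrFun (diagonal_injective h) 1)))
  obtain ⟨s, hs⟩ : ∃ s : SU 3 F (2 ^ n), s.1.1 = !![0, 1, 0; 1, 0, 0; 0, 0, 1] :=
    ⟨⟨⟨_, by simp [det_fin_three]; linear_combination -h2⟩, (mem_SU_iff hq _).2 (by
      ext i j; fin_cases i <;> fin_cases j <;> simp [Matrix.mul_apply, Fin.sum_univ_three])⟩, rfl⟩
  obtain ⟨r, hr⟩ : ∃ s : SU 3 F (2 ^ n), s.1.1 = !![1, 0, 0; 0, 0, 1; 0, 1, 0] :=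
    ⟨⟨⟨_, by simp [det_fin_three]; linear_combination -h2⟩, (mem_SU_iff hq _).2 (by
      ext i j; fin_cases i <;> fin_cases j <;> simp [Matrix.mul_apply, Fin.sum_univ_three])⟩, rfl⟩
  have hm : ∀ x y : SU 3 F (2 ^ n), (x * y).1.1 = x.1.1 * y.1.1 := fun _ _ => rfl
  have hsδ : ∀ p, s * δ p * s⁻¹ = δ (p.2, p.1) := fun p => mul_inv_eq_of_eq_mul (Subtype.ext (Subtype.ext (by
    rw [hm, hm, hs, hδ, hδ]
    ext i j; fin_cases i <;> fin_cases j <;> simp [Matrix.mul_apply, Fin.sum_univ_three, mul_comm])))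
  have hrδ : ∀ p, r * δ p * r⁻¹ = δ (p.1, (p.1 * p.2)⁻¹) := fun p =>
    mul_inv_eq_of_eq_mul (Subtype.ext (Subtype.ext (by
      rw [hm, hm, hr, hδ, hδ]
      ext i j; fin_cases i <;> fin_cases j <;> simp [Matrix.mul_apply, Fin.sum_univ_three])))
  have hw : ∀ p, s * r * δ p * (s * r)⁻¹ = δ ((p.1 * p.2)⁻¹, p.1) := fun p => by
    rw [← hsδ (p.1, (p.1 * p.2)⁻¹), ← hrδ]; group
  have hN : s * r ∈ N[δ.range] := mem_normalizer_fintype (by rintro _ ⟨p, rfl⟩; exact ⟨_, (hw p).symm⟩)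
  have hsc : ∀ A : SU 3 F (2 ^ n), (∃ c, scalar (Fin 3) c = A.1.1) → A ∈ center _ := fun A ⟨c, hc⟩ =>
    mem_center_iff.2 fun B => Subtype.ext (Subtype.ext (by
      rw [hm, hm, ← hc]; exact ((scalar_commute c (fun _ => Commute.all _ _) _).eq).symm))
  obtain ⟨ζ, hζ⟩ := IsCyclic.exists_generator (α := μ)
  have ho := (orderOf_eq_card_of_forall_mem_zpowers hζ).trans hμ
  have hn : n ≠ 0 := by rintro rfl; exact Fintype.one_lt_card.ne' hF
  have h3 : ζ * ζ ≠ 1 := fun e => by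
    have := Nat.le_of_dvd two_pos (ho ▸ orderOf_dvd_of_pow_eq_one ((sq ζ).trans e))
    have := Nat.one_lt_two_pow hn
    omega
  have h4 : orderOf (s * r) = 3 := orderOf_eq_prime (Subtype.ext (Subtype.ext (by
      simp only [pow_three, hm, hs, hr]
      ext i j; fin_cases i <;> fin_cases j <;> simp [Matrix.mul_apply, Fin.sum_univ_three])))
    fun e => by simpa [hm, hs, hr, Matrix.mul_apply, Fin.sum_univ_three] using congrArg (·.1.1 0 0) e
  refine ⟨δ (ζ, 1), s, r, δ.range, Subtype.ext (Subtype.ext ?_), Subtype.ext (Subtype.ext ?_), ?_, ?_, hN,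
    ?_, ?_, ?_⟩
  · rw [hm, hs]; ext i j; fin_cases i <;> fin_cases j <;> simp [Matrix.mul_apply, Fin.sum_univ_three]
  · rw [hm, hr]; ext i j; fin_cases i <;> fin_cases j <;> simp [Matrix.mul_apply, Fin.sum_univ_three]
  · rw [hsδ]; exact (Commute.all _ _).map δ
  · rw [hsδ]
    refine le_antisymm ?_ (sup_le (zpowers_le.2 ⟨_, rfl⟩) (zpowers_le.2 ⟨_, rfl⟩))
    rintro _ ⟨⟨x, y⟩, rfl⟩
    obtain ⟨i, rfl⟩ := hζ x
    obtain ⟨j, rfl⟩ := hζ y
    rw [show ((fun k : ℤ => ζ ^ k) i, (fun k : ℤ => ζ ^ k) j) = (ζ, 1) ^ i * (1, ζ) ^ j by simp,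
      map_mul, map_zpow, map_zpow]
    exact mul_mem_sup (zpow_mem_zpowers _ _) (zpow_mem_zpowers _ _)
  · rintro _ ⟨p, rfl⟩ h
    obtain ⟨e1, e2⟩ := Prod.ext_iff.1 (hinj ((hw p).symm.trans (mul_inv_eq_of_eq_mul h.eq.symm)))
    simp only at e1 e2
    refine hsc _ ⟨p.1.1.1, ?_⟩
    rw [hδ, e1, ← e2, scalar_apply]
    congr 1; ext i; fin_cases i <;> rfl
  · have h5 := Quad.card_sup_mul_card_inf' (zpowers_le.2 hN)
    rw [Nat.card_zpowers, h4, ← Nat.card_congr (MonoidHom.ofInjective hinj).toEquiv, Nat.card_prod,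
      hμ, ← sq] at h5
    rw [← h5, ((Quad.eq_bot_or_eq_of_le_of_card_prime (Nat.card_zpowers _ |>.trans h4) inf_le_right).resolve_right
      fun e => ?_), card_bot, mul_one]
    obtain ⟨p, hp⟩ := (e.ge (mem_zpowers _)).1
    simpa [hδ, hm, hs, hr, Matrix.mul_apply, Fin.sum_univ_three] using congrArg (·.1.1 0 0) hp
  · have h5 : ∀ A ∈ center (SU 3 F (2 ^ n)), A.1 ∈ center SL(3, F) := fun A hA => by
      have e := fun B => (hm _ _).symm.trans ((congrArg (·.1.1) (mem_center_iff.1 hA B)).trans (hm _ _))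
      have h8 := scalar_of_comm ζ.1.ne_zero (fun e => h3 (Subtype.ext (Units.ext e)))
        (by simpa [hδ] using e (δ (ζ, 1))) (hs ▸ e s) (hr ▸ e r)
      refine Matrix.SpecialLinearGroup.mem_center_iff.2 ⟨_, ?_, h8⟩
      simpa using (congrArg det h8).trans A.1.2
    let f := (SpecialLinearGroup.center_equiv_rootsOfUnity' (0 : Fin 3)).toMonoidHom.comp
      (((SU 3 F (2 ^ n)).subtype.comp (center _).subtype).codRestrict _ fun A => h5 _ A.2)
    have hf : Function.Injective f := fun A B e => Subtype.ext (Subtype.ext (congrArg Subtype.val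
      ((SpecialLinearGroup.center_equiv_rootsOfUnity' (R := F) (0 : Fin 3)).injective e) :))
    have := isCyclic_of_injective f hf
    rw [← IsCyclic.exponent_eq_card]
    exact Monoid.exponent_dvd_of_forall_pow_eq_one fun A =>
      hf (by rw [map_pow, map_one]; exact Subtype.ext (f A).2)

theorem su_commutator_inf_ker {Y : Type*} [Group Y] [Finite Y] (hF : Fintype.card F = 4 ^ n)
    {π : Y →* SU 3 F (2 ^ n)} (hs : Function.Surjective π) (hc : π.ker ≤ center Y)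
    (ho : Odd (Nat.card π.ker)) : commutator Y ⊓ π.ker = ⊥ := by
  refine inf_eq_bot_of_prime ho fun p hp h2 z hz hz' e => ?_
  have := Fact.mk hp
  obtain ⟨H, hH, χ, hχ⟩ := su_exists_stab hF
  have h0 : ¬ (p : ℤ) ∣ 2 := fun e => h2 ((Nat.prime_dvd_prime_iff_eq hp Nat.prime_two).1 (mod_cast e))
  have hp' := Nat.prime_iff_prime_int.1 hp
  replace hF : Fintype.card F = (2 ^ n) ^ 2 ∧ Fintype.card F = 4 ^ n :=
    ⟨by rw [hF, ← pow_mul, mul_comm, pow_mul]; rfl, hF⟩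
  have h3 : ∀ i, (((2 ^ n) ^ i - 1 : ℕ) : ℤ) = (2 ^ n) ^ i - 1 := fun i => by
    rw [Nat.cast_sub (Nat.one_le_pow _ _ (by positivity))]; push_cast; rfl
  by_cases h1 : p ∣ 2 ^ n + 1
  · obtain ⟨a, s, r, T, e1, e2, e3, e4, e5, e6, e7, -⟩ := su_exists_torus hF.2
    refine eq_one_of_index hs hc (fun h => ?_) (commutator_inf_ker_monomial hs hc ho e1 e2 e3 e4 e5 e6)
      hz hz' e
    obtain ⟨k, hk⟩ := hχ.exists_card_eq
    have h4 : ((2 ^ n + 1) ^ 2 * 3) * p ∣ 2 ^ k * ((2 ^ n) ^ 2 - 1) * ((2 ^ n) ^ 3 + 1) := by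
      refine (mul_dvd_mul_left _ h).trans ?_
      rw [← e7, card_mul_index, ← H.card_mul_index, hH, ← χ.ker.card_mul_index, hk, index_ker]
      refine mul_dvd_mul_right (mul_dvd_mul_left _ ((card_subgroup_dvd_card _).trans (dvd_of_eq ?_))) _
      rw [Nat.card_units, Nat.card_eq_fintype_card, hF.1]
    rw [← Int.natCast_dvd_natCast] at h4 h1
    push_cast [h3] at h4 h1
    have h5 : ((2 : ℤ) ^ n + 1) ^ 2 ≠ 0 := by positivity
    generalize (2 : ℤ) ^ n = q at h4 h1 h5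
    rw [mul_assoc, show 2 ^ k * (q ^ 2 - 1) * (q ^ 3 + 1) =
      (q + 1) ^ 2 * ((q ^ 2 - q + 1) * (2 ^ k * (q - 1))) by ring, mul_dvd_mul_iff_left h5] at h4
    have h6 : ¬ (p : ℤ) ∣ 2 ^ k * (q - 1) := fun e => h0 ((hp'.dvd_or_dvd e).elim hp'.dvd_of_dvd_pow
      fun e => (dvd_sub h1 e).trans (dvd_of_eq (by ring)))
    have h7 := (hp'.dvd_or_dvd ((dvd_mul_left _ _).trans h4)).resolve_right h6
    obtain rfl : p = 3 := (Nat.prime_dvd_prime_iff_eq hp Nat.prime_three).1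
      (mod_cast (dvd_sub h7 (h1.mul_left (q - 2))).trans (dvd_of_eq (show _ = 3 by ring)))
    obtain ⟨j, hj⟩ := h1
    obtain rfl : q = 3 * j - 1 := eq_sub_of_add_eq hj
    rw [show (3 * j - 1) ^ 2 - (3 * j - 1) + 1 = 3 * (3 * (j ^ 2 - j) + 1) by ring, mul_assoc,
      mul_dvd_mul_iff_left three_ne_zero] at h4
    exact hp'.not_dvd_one ((dvd_add_right (dvd_mul_right _ _)).1 ((hp'.dvd_or_dvd h4).resolve_right h6))
  refine eq_one_of_isCyclic hs hc ?_ hz hz' e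
  by_cases hd : p ∣ (2 ^ n) ^ 3 + 1
  swap
  · exact isCyclic_of_stab χ hχ h2 (by rwa [hH])
  refine isCyclic_of_matrix (SpecialLinearGroup.coeMonoidHom.comp (SU 3 F _).subtype)
    (fun A B e => Subtype.ext (Subtype.ext e)) h2
    (fun e => h0 (mod_cast hp.dvd_of_dvd_pow (hp.dvd_of_dvd_pow (hF.1 ▸ e)))) fun i h4 h5 e => ?_
  rw [hF.1, ← pow_mul] at e
  rw [← Int.natCast_dvd_natCast] at e hd h1
  push_cast [h3] at e hd h1
  generalize (2 : ℤ) ^ n = q at *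
  have h7 : (p : ℤ) ∣ q ^ 4 - 1 := e.trans (by
    rw [Fintype.card_fin] at h5
    interval_cases i
    exacts [⟨q ^ 2 + 1, by ring⟩, dvd_rfl])
  exact h1 ((dvd_sub (hd.mul_left q) h7).trans (dvd_of_eq (by ring)))

/-- a perfect odd central extension of `PSU(3, 2ⁿ)` is `PSU(3, 2ⁿ)` or `SU(3, 2ⁿ)` -/
theorem psu_ker_eq_bot {K : Type*} [Group K] [Finite K] (hF : Fintype.card F = 4 ^ n)
    (hK : commutator K = ⊤) {f : K →* PSU 3 F (2 ^ n)} (hs : Function.Surjective f) (hc : f.ker ≤ center K)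
    (ho : Odd (Nat.card f.ker)) : f.ker = ⊥ ∨ Nonempty (K ≃* SU 3 F (2 ^ n)) := by
  obtain ⟨-, -, -, -, -, -, -, -, -, -, -, hZ⟩ := su_exists_torus hF
  let Y : Subgroup (K × SU 3 F (2 ^ n)) :=
    (f.comp (MonoidHom.fst _ _)).eqLocus ((QuotientGroup.mk' _).comp (MonoidHom.snd _ _))
  let π₁ := (MonoidHom.fst _ _).comp Y.subtype
  let π₂ := (MonoidHom.snd _ _).comp Y.subtype
  have h1 : Function.Surjective π₁ := fun k =>
    have ⟨A, hA⟩ := QuotientGroup.mk_surjective (f k); ⟨⟨(k, A), hA.symm⟩, rfl⟩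
  have h2 : Function.Surjective π₂ := fun A => have ⟨k, hk⟩ := hs A; ⟨⟨(k, A), hk⟩, rfl⟩
  have h3 : ∀ y ∈ π₂.ker, π₁ y ∈ f.ker := fun y hy => y.2.trans (congrArg _ hy)
  have h4 : ∀ y, π₁ y = 1 → π₂ y = 1 → y = 1 := fun y e1 e2 => Subtype.ext (Prod.ext e1 e2)
  have h5 := su_commutator_inf_ker hF h2 (fun y hy => mem_center_iff.2 fun x => Subtype.ext (Prod.ext
      (mem_center_iff.1 (hc (h3 y hy)) _) (by
        show π₂ x * π₂ y = π₂ y * π₂ x
        rw [show π₂ y = 1 from hy, mul_one, one_mul])))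
    (ho.of_dvd_nat (card_dvd_of_injective ((π₁.comp π₂.ker.subtype).codRestrict _ fun y => h3 _ y.2)
      ((injective_iff_map_eq_one _).2 fun y e => Subtype.ext (h4 _ (congrArg Subtype.val e) y.2))))
  have h6 : (commutator Y).map π₁ = ⊤ := by
    rw [map_commutator_eq, MonoidHom.range_eq_top.2 h1, ← commutator_def, hK]
  have h7 : ∀ y : Y, f (π₁ y) = 1 ↔ π₂ y ∈ center _ := fun y =>
    (Eq.congr_left y.2).trans (QuotientGroup.eq_one_iff _)
  by_cases h8 : (commutator Y).map π₂ ⊓ center _ ≤ (commutator Y ⊓ π₁.ker).map π₂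
  · refine .inl (eq_bot_iff.2 fun k hk => ?_)
    obtain ⟨y, hy, rfl⟩ := h6.ge (mem_top k)
    obtain ⟨x, hx, e⟩ := h8 ⟨mem_map_of_mem _ hy, (h7 y).1 hk⟩
    rw [← mul_inv_eq_one, ← map_inv, ← map_mul] at e
    rw [← mul_inv_eq_one.1 (h5.le ⟨(commutator Y).mul_mem hx.1 (inv_mem hy), e⟩)]
    exact hx.2
  have h9 : (commutator Y ⊓ π₁.ker).map π₂ ≤ center _ := by
    rintro _ ⟨y, hy, rfl⟩; exact (h7 y).1 (by rw [show π₁ y = 1 from hy.2, map_one])
  replace hZ := (Nat.dvd_prime Nat.prime_three).1 hZ |>.resolve_left fun e =>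
    h8 (by rw [card_eq_one.1 e, inf_bot_eq]; exact bot_le)
  have h10 := (Quad.eq_bot_or_eq_of_le_of_card_prime hZ h9).resolve_right fun e => h8 (e ▸ inf_le_right)
  have h11 := (Quad.eq_bot_or_eq_of_le_of_card_prime hZ inf_le_right).resolve_left fun e => h8 (e ▸ bot_le)
  refine .inr ⟨(MulEquiv.ofBijective (π₁.comp (commutator Y).subtype) ⟨(injective_iff_map_eq_one _).2
    fun y e => Subtype.ext (h4 _ e (h10.le (mem_map_of_mem _ ⟨y.2, e⟩))), fun k => ?_⟩).symm.trans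
    (MulEquiv.ofBijective (π₂.comp (commutator Y).subtype) ⟨(injective_iff_map_eq_one _).2
      fun y e => Subtype.ext (h5.le ⟨y.2, e⟩), fun A => ?_⟩)⟩
  · obtain ⟨y, hy, e⟩ := h6.ge (mem_top k)
    exact ⟨⟨y, hy⟩, e⟩
  · obtain ⟨x, rfl⟩ := h2 A
    obtain ⟨y, hy, e⟩ := h6.ge (mem_top (π₁ x))
    obtain ⟨w, hw, e'⟩ := (h11.ge ((h7 (x * y⁻¹)).1 (by simp [e]))).1
    exact ⟨⟨w * y, mul_mem hw hy⟩, by simpa using eq_mul_inv_iff_mul_eq.1 (by simpa using e')⟩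

end

end Cfsg.Lib.CI2
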