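import Cfsg.Agent.Lib.CI2.Main
import Cfsg.Agent.Lib.CI2.CoverU
import Cfsg.Agent.Lib.FT.GW.Final
import Cfsg.Agent.Lib.Walter.List
import Cfsg.Agent.Lib.Golay.ProjPerm

/-!
# Central extensions of the simple Bender groups
-/

set_option autoImplicit false

namespace Cfsg.Lib.CI2.Ext
open Subgroup Cfsg.Lib Cfsg.Lib.FT Cfsg.Lib.Suz
open scoped commutatorElement MatrixGroups

variable {L X : Type*} [Group L] [Finite L] [Group X] [Finite X] [IsSimpleGroup X] {f : L →* X}
  {S : Subgroup L} {H Q : Subgroup X} {t : X} (h : Ext f S H Q t)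
include h

omit [Finite L] in
theorem not_comm : ¬ IsMulCommutative X := fun e => by
  obtain ⟨x, hx⟩ := exists_ne (1 : X)
  exact hx (mem_bot.1 (h.ro.center_eq_bot ▸ mem_center_iff.2 fun y => e.1.1 y x))

omit [Finite L] in
theorem sup_ker : commutator L ⊔ f.ker = ⊤ := by
  rw [← comap_map_eq, map_commutator_eq, MonoidHom.range_eq_top.2 h.surj,
    (commutator_normal ⊤ ⊤).eq_bot_or_eq_top.resolve_left fun e => h.not_comm
      ((commutator_eq_bot_iff X).1 e), comap_top]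

omit [Finite L] in
theorem surj' : Function.Surjective (f.comp (commutator L).subtype) := fun x => by
  obtain ⟨y, rfl⟩ := h.surj x
  obtain ⟨k, hk, z, hz, rfl⟩ := mem_sup_of_normal_left.1 (h.sup_ker.ge (mem_top y))
  exact ⟨⟨k, hk⟩, by simp [show f z = 1 from hz]⟩

omit [Finite L] [Finite X] [IsSimpleGroup X] in
theorem cen' : (f.comp (commutator L).subtype).ker ≤ center (commutator L) := fun z hz =>
  mem_center_iff.2 fun y => Subtype.ext (h.comm hz y)

omit [Finite L] in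
theorem perfect : commutator (commutator L) = ⊤ := by
  refine Group.isPerfect_def.1 (isPerfect_iff.2 (le_antisymm (commutator_le_self _) ?_))
  nth_rewrite 1 [commutator_def]
  refine commutator_le.2 fun x _ y _ => ?_
  obtain ⟨k, hk, z, hz, rfl⟩ := mem_sup_of_normal_left.1 (h.sup_ker.ge (mem_top x))
  obtain ⟨l, hl, w, hw, rfl⟩ := mem_sup_of_normal_left.1 (h.sup_ker.ge (mem_top y))
  convert commutator_mem_commutator hk hl using 1
  calc _ = k * (z * (l * (w * z⁻¹))) * (k⁻¹ * w⁻¹) * l⁻¹ := by simp only [commutatorElement_def]; group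
    _ = _ := by
      rw [← mul_assoc l, ← h.comm hz, h.comm (inv_mem hw : w⁻¹ ∈ f.ker), commutatorElement_def]; group

theorem sup_eq_top (hgen : ∀ N : Subgroup L, N.Normal → S ≤ N → N = ⊤) :
    S ⊓ f.ker ⊔ commutator L = ⊤ := by
  have hs := QuotientGroup.mk'_surjective (commutator L)
  have hk := QuotientGroup.ker_mk' (commutator L)
  set g := QuotientGroup.mk' (commutator L)
  have h1 : ∀ A : Subgroup L, A ⊔ commutator L = ⊤ ↔ A.map g = ⊤ := fun A => by
    rw [← (comap_injective hs).eq_iff, comap_top, comap_map_eq, hk]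
  have h2 := (h.syl.inf_of_le_normalizer (N := f.ker) le_top le_normalizer_of_normal).map g
  rw [(h1 f.ker).1 (by rw [sup_comm, h.sup_ker])] at h2
  have h3 := h.syl.isPGroup.map g
  rw [(h1 _).1 (hgen _ (Normal.of_commutator_le _ le_sup_right) le_sup_left)] at h3
  exact (h1 _).2 (h2.maximal _ h3 le_top le_top).symm

theorem nonempty_sl2 (he : ∀ x ∈ Q, x * x = 1) (hna : ¬ S ≤ C[S]) (h2 : IsPGroup 2 f.ker) :
    Nonempty (commutator L ≃* SL(2, ZMod 5)) := by
  have h4 := (h.exists_le_zpowers he hna).1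
  have hd := Wal.dih2_of_four (h.map ▸ isSylowIn_map_top h.surj h.syl) he h4
  obtain ⟨n, -, h1, F, _, _, hF, ⟨e⟩⟩ := h.ro.isoPSL2 h.rk he
  rw [le_antisymm (h.ro.Z_le h.rk) fun x hx => (h.ro.mem_Z h.rk).2 ⟨hx, he x hx⟩, h4] at h1
  have h3 := h9_card_psl2_dvd (F := F)
  rw [hF, ← h1, ← Nat.card_congr e.toEquiv] at h3
  replace h3 := Nat.le_of_dvd (by norm_num) h3
  obtain ⟨E, _, _, ho, hE, ⟨e⟩⟩ | ⟨⟨e⟩⟩ := GW.gorenstein_walter X h.not_comm hd
  swap
  · rw [Nat.card_congr e.toEquiv, nat_card_alternatingGroup, Nat.card_fin] at h3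
    exact absurd h3 (by decide)
  have h5 : Fintype.card E = Fintype.card (ZMod 5) := by
    have := Big.card_psl2_odd ho
    rw [← Nat.card_congr e.toEquiv] at this
    rw [ZMod.card]
    obtain ⟨k, hk⟩ := ho
    rw [hk] at this hE ⊢
    by_contra hne
    have h6 : 7 * (7 ^ 2 - 1) ≤ (2 * k + 1) * ((2 * k + 1) ^ 2 - 1) := by gcongr <;> omega
    omega
  have h6 := hd.card_ker_le h.perfect _ h.cen' (h2.of_injective
    (((commutator L).subtype.comp (Subgroup.subtype _)).codRestrict _ fun x => x.2)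
    fun x y e => Subtype.ext (Subtype.ext (congrArg Subtype.val e :)))
  have h7 : Nat.card (f.comp (commutator L).subtype).ker ≠ 1 := fun e => hna
    (commutator_eq_bot_iff_le_centralizer.1 (eq_bot_iff.2 fun x hx => congrArg Subtype.val
      ((card_eq_one.1 e).le (show (⟨x, commutator_mono le_top le_top hx⟩ : commutator L) ∈ _ from
        h.commutator_le_ker he hx))))
  obtain ⟨e'⟩ := hd.nonempty_sl2 h.perfect h.surj' h.cen' (by
    have := Nat.card_pos (α := (f.comp (commutator L).subtype).ker); omega) ho hE e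
  exact ⟨e'.trans (PC.slCongr (FiniteField.ringEquivOfCardEq h5))⟩

omit [IsSimpleGroup X] in
theorem odd_ker (hna : ∃ x ∈ Q, ∃ y ∈ Q, x * y ≠ y * x) (hW : S ⊓ (zsub Q).comap f ≤ C[S]) :
    Odd (Nat.card (f.comp (commutator L).subtype).ker) := by
  rw [← Nat.not_even_iff_odd, even_iff_two_dvd]
  intro e
  obtain ⟨⟨⟨z, hz⟩, hz'⟩, h1⟩ := exists_prime_orderOf_dvd_card' 2 e
  rw [orderOf_mk, orderOf_mk] at h1
  have h2 := h1 ▸ pow_orderOf_eq_one z
  have : (zpowers z).Normal := pg_normal_zpowers_of_mem_center (h.cen hz')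
  refine ne_one_of_orderOf_two h1 ((h.commutator_inf_ker hna hW).le ⟨mem_commutator_of_index
    (relIndex_top_right S ▸ h.syl.not_dvd_relIndex) (h.cen hz') (h.syl.le_of_normalizes
      (elemAb_isPGroup (elemAb_zpowers h2)) le_top le_normalizer_of_normal (mem_zpowers z)) hz h2, hz'⟩)

theorem classify (hna : ∃ x ∈ Q, ∃ y ∈ Q, x * y ≠ y * x) :
    (S ⊓ f.ker ⊓ commutator L = ⊥ ∧ ((∃ m, 1 ≤ m ∧ Big.IsoSz (commutator L) m) ∨
      ∃ (n : ℕ) (F : Type) (_ : Field F) (_ : Fintype F), 2 ≤ n ∧ Fintype.card F = 4 ^ n ∧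
        (Nonempty (commutator L ≃* PSU 3 F (2 ^ n)) ∨ Nonempty (commutator L ≃* SU 3 F (2 ^ n))))) ∨
    (center (commutator L) ≠ ⊥ ∧ Big.IsoSz (commutator L ⧸ center (commutator L)) 1) := by
  have h1 : Odd (Nat.card (f.comp (commutator L).subtype).ker) → S ⊓ f.ker ⊓ commutator L = ⊥ :=
    fun e => eq_bot_iff.2 fun x hx => by
      obtain ⟨k, hk⟩ := h.syl.isPGroup ⟨x, hx.1.1⟩
      exact (pow_eq_one_iff_of_coprime ((Nat.coprime_two_left.2 e).pow_left k)).1 ⟨congrArg Subtype.val hk,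
        congrArg (·.1.1) (pow_card_eq_one' (x := (⟨⟨x, hx.2⟩, hx.1.2⟩ : (f.comp (commutator L).subtype).ker)))⟩
  have h2 : ∀ {Y : Type} [Group Y] (e : X ≃* Y), Function.Surjective (e.toMonoidHom.comp
      (f.comp (commutator L).subtype)) ∧ (e.toMonoidHom.comp (f.comp (commutator L).subtype)).ker =
      (f.comp (commutator L).subtype).ker := fun e =>
    ⟨e.surjective.comp h.surj', Subgroup.ext fun x => e.map_eq_one_iff⟩
  have h3 : ∀ {Y : Type} [Group Y] (e : X ≃* Y), (f.comp (commutator L).subtype).ker = ⊥ →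
      Nonempty (commutator L ≃* Y) := fun e hk =>
    ⟨(MulEquiv.ofBijective _ ⟨(MonoidHom.ker_eq_bot_iff _).1 hk, h.surj'⟩).trans e⟩
  obtain ⟨hsq, hc | ⟨hc, -⟩⟩ := h.ro.higman h.rk hna
  · obtain ⟨m, hm, hZ, F, _, _, hF, ⟨e⟩⟩ := h.ro.isoSz h.rk (h.ro.isPGroup_two h.rk) hna hc
    by_cases h4 : (f.comp (commutator L).subtype).ker = ⊥
    · exact .inl ⟨h1 (by simp [h4]), .inl ⟨m, hm, F, _, _, hF, h3 e h4⟩⟩
    by_cases h8 : m = 1
    · have := Group.isPerfect_def.2 h.perfect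
      have h5 := comap_center_of_ker_le_center _ h.surj' h.cen'
      rw [h.ro.center_eq_bot, MonoidHom.comap_bot] at h5
      subst h8
      exact .inr ⟨h5 ▸ h4, F, _, _, hF, ⟨((QuotientGroup.quotientMulEquivOfEq h5.symm).trans
        (QuotientGroup.quotientKerEquivOfSurjective _ h.surj')).trans e⟩⟩
    have h5 := h.odd_ker hna (h.W_central_sq hna hc fun e => h8 (by
      have := Nat.pow_right_injective le_rfl (hZ.symm.trans e : 2 ^ _ = 2 ^ 3); omega))
    exact absurd ((h2 e).2 ▸ sz_ker_eq_bot hF h.perfect (h2 e).1 ((h2 e).2 ▸ h.cen') ((h2 e).2 ▸ h5)) h4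
  · obtain ⟨n, hn, -, F, _, _, hF, ⟨e⟩⟩ := h.ro.isoPSU3' h.rk hsq hc
    have h5 := h.odd_ker hna (h.W_central_cube hna hc)
    replace hF : Fintype.card F = 4 ^ n := by rw [hF, ← pow_mul, mul_comm, pow_mul]; rfl
    exact .inl ⟨h1 h5, .inr ⟨n, F, _, _, hn, hF, (psu_ker_eq_bot hF h.perfect (h2 e).1 ((h2 e).2 ▸ h.cen')
      ((h2 e).2 ▸ h5)).imp_left fun e' => h3 e ((h2 e).2 ▸ e')⟩⟩

end Cfsg.Lib.CI2.Ext
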