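import Cfsg.Agent.Lib.CI2.Ext
import Cfsg.Agent.Lib.CI2.Basic
import Cfsg.Agent.Lib.Big.Bender
import Cfsg.Agent.Lib.Cor.Tools8

/-!
# Groups with central Sylow 2-intersections: the case of trivial intersections modulo the centre
-/

set_option autoImplicit false

namespace Cfsg.Lib.CI2
open Subgroup Cfsg.Lib Cfsg.Lib.FT Cfsg.Lib.Suz
open scoped commutatorElement

variable {G : Type*} [Group G]

/-- the local information on a Sylow subgroup `S` and a Sylow intersection `D` -/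
def Loc (S D : Subgroup G) : Prop :=
  (IsCyclic ↥⁅S, S⁆ ∧ ∀ x ∈ S, ∃ z ∈ S, ∃ d ∈ D, x = z * d ∧ z * z ∈ ⁅S, S⁆) ∨
  (¬ ⁅S, S⁆ ≤ D ∧ ((∀ x ∈ S, x * x = 1 → x ∈ C[S]) → ⁅S, S⁆ ⊓ D = ⊥ ∧
    ∀ u ∈ ⁅S, S⁆, ∀ v ∈ ⁅S, S⁆, u ≠ 1 → v ≠ 1 → ∃ l ∈ N[S] ⊓ C[D], l * u * l⁻¹ = v))

theorem Loc.map {G' : Type*} [Group G'] {f : G →* G'} (hf : Function.Injective f) {S D : Subgroup G}
    (h : Loc S D) : Loc (S.map f) (D.map f) := by
  rw [Loc, ← map_commutator]
  rcases h with ⟨h1, h2⟩ | ⟨h1, h2⟩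
  · refine Or.inl ⟨isCyclic_of_surjective _ (f.subgroupMap_surjective _), ?_⟩
    rintro _ ⟨x, hx, rfl⟩
    obtain ⟨z, hz, d, hd, rfl, e⟩ := h2 x hx
    exact ⟨_, ⟨z, hz, rfl⟩, _, ⟨d, hd, rfl⟩, map_mul _ _ _, ⟨_, e, map_mul _ _ _⟩⟩
  · refine Or.inr ⟨fun e => h1 ((map_le_map_iff_of_injective hf).1 e), fun h3 => ?_⟩
    obtain ⟨h4, h5⟩ := h2 fun x hx e => mem_centralizer_iff.2 fun y hy => hf (by
      simpa using mem_centralizer_iff.1 (h3 _ ⟨x, hx, rfl⟩ (by rw [← map_mul, e, map_one])) _ ⟨y, hy, rfl⟩)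
    refine ⟨by rw [← map_inf_eq _ _ _ hf, h4, Subgroup.map_bot], ?_⟩
    rintro _ ⟨u, hu, rfl⟩ _ ⟨v, hv, rfl⟩ hu1 hv1
    obtain ⟨l, hl, rfl⟩ := h5 u hu v hv (fun e => hu1 (by simp [e])) (fun e => hv1 (by simp [e]))
    refine ⟨f l, ⟨le_normalizer_map f ⟨l, hl.1, rfl⟩, mem_centralizer_iff.2 ?_⟩, by simp⟩
    rintro _ ⟨d, hd, rfl⟩
    rw [← map_mul, mem_centralizer_iff.1 hl.2 d hd, map_mul]

variable [Finite G]

namespace Ext

variable {X : Type*} [Group X] [Finite X] {f : G →* X} {S : Subgroup G} {H Q : Subgroup X} {t : X}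
  (h : Ext f S H Q t)
include h

theorem exists_le_zpowers (he : ∀ x ∈ Q, x * x = 1) (hna : ¬ S ≤ C[S]) :
    Nat.card Q = 4 ∧ ∃ c, c * c = 1 ∧ ⁅S, S⁆ ≤ zpowers c := by
  have h8 := not_le.1 (mt (h.abelian_of_elem he) hna)
  obtain ⟨x, hx₀, y, hy₀, hx2, hy2, hx1, hy1, hxy⟩ := h.rk
  obtain ⟨-, h1⟩ := ea_zpowers_sup (elemAb_zpowers (show y ^ 2 = 1 by rw [sq, hy2]))
    (show x ^ 2 = 1 by rw [sq, hx2]) (by
      rw [centralizer_zpowers]; exact mem_C1.2 (h.ro.invol_central h.rk hx₀ hx2 hy₀)) (by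
      rw [h9_mem_zpowers_two hy2]; simp [hx1, hxy])
  rw [Nat.card_zpowers, h9_orderOf_eq_two_iff.2 ⟨hy1, hy2⟩] at h1
  have h2 : zpowers x ⊔ zpowers y ≤ Q := sup_le (zpowers_le.2 hx₀) (zpowers_le.2 hy₀)
  have h3 : Nat.card Q = 4 := by
    obtain ⟨k, hk⟩ := h1 ▸ card_dvd_of_le h2
    have := Nat.card_pos (α := Q)
    omega
  obtain ⟨a, ha, rfl⟩ := h.lift hx₀
  obtain ⟨b, hb, rfl⟩ := h.lift hy₀
  have h4 : f ⁅a, b⁆ = 1 := h.commutator_le_ker he (commutator_mem_commutator ha hb)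
  have h5 : ∀ g, g ∈ N[zpowers ⁅a, b⁆] := fun g => centralizer_le_normalizer _ (by
    rw [centralizer_zpowers]; exact mem_C1.2 (h.comm h4 g))
  refine ⟨h3, ⁅a, b⁆, ?_, commutator_le_zpowers (K := S ⊓ f.ker) (inf_le_inf_left _ fun z hz =>
    mem_centralizer_iff.2 fun y _ => h.comm hz y) ha hb (fun s hs => ?_) (h5 a) (h5 b)⟩
  · calc _ = a * (b * a⁻¹ * b⁻¹ * ⁅a, b⁆) := by simp only [commutatorElement_def, mul_assoc]
      _ = (a * a) * b * (a * a)⁻¹ * b⁻¹ := by rw [h.comm h4, commutatorElement_def]; group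
      _ = 1 := by rw [← h.comm (z := a * a) (by rwa [map_mul])]; group
  · have := (eq_of_le_of_card_ge h2 (by omega)).ge (h.mem_Q hs)
    rw [← MonoidHom.map_zpowers, ← MonoidHom.map_zpowers, ← Subgroup.map_sup] at this
    obtain ⟨y, hy, e⟩ := this
    have hyS : y ∈ S := sup_le (zpowers_le.2 ha) (zpowers_le.2 hb) hy
    rw [sup_assoc, ← inv_mul_cancel_right s y, ← mul_inv_cancel_right s y, inv_mul_cancel_right]
    simpa using mul_mem (mem_sup_left (show s * y⁻¹ ∈ S ⊓ f.ker from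
      ⟨S.mul_mem hs (S.inv_mem hyS), by simp [e]⟩)) (mem_sup_right hy)

theorem commutator_le_Z (hna : ∃ x ∈ Q, ∃ y ∈ Q, x * y ≠ y * x) : ⁅S, S⁆ ≤ (zsub Q).comap f :=
  commutator_le.2 fun x hx y hy => by
    simpa [cm, commutatorElement_def] using h.ro.cm_mem h.rk (h.ro.higman h.rk hna).1
      (h.mem_Q (inv_mem hx)) (h.mem_Q (inv_mem hy))

theorem loc (hna : ¬ S ≤ C[S]) : Loc S (S ⊓ f.ker) := by
  obtain ⟨k, hk, hk1⟩ := h.ro.exists_K_ne_one h.rk
  obtain ⟨κ, rfl⟩ := h.surj k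
  have hκ := h.mem_N (h.ro.D_le hk.1)
  have nS : ∀ y ∈ S, κ⁻¹ * y * κ ∈ S := fun y hy => conj_mem_of_le_normalizer' le_rfl hκ hy
  have dec : ∀ Z ≤ Q, (∀ y ∈ Z, (f κ)⁻¹ * y * f κ ∈ Z) → ∀ x ∈ S, f x ∈ Z → ∃ y ∈ S, f y ∈ Z ∧
      (y⁻¹ * (κ⁻¹ * y * κ))⁻¹ * x ∈ S ⊓ f.ker := fun Z hZ hn x hx hxZ => by
    obtain ⟨z, hz, e⟩ := exists_comm_of_fpf hn (fun y hy => h.ro.K_fpf hk hk1 (hZ hy)) hxZ
    obtain ⟨y, hy, rfl⟩ := h.lift (hZ hz)
    exact ⟨y, hy, hz, S.mul_mem (S.inv_mem (S.mul_mem (S.inv_mem hy) (nS y hy))) hx, MonoidHom.mem_ker.2 (by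
      rw [map_mul, e]; simp [mul_assoc])⟩
  rcases (h.ro.concl h.rk).2 with he | ⟨hn, -⟩
  · obtain ⟨-, c, -, hc⟩ := h.exists_le_zpowers he hna
    refine Or.inl ⟨isCyclic_of_le inferInstance hc, fun x hx => ?_⟩
    obtain ⟨y, hy, -, e⟩ := dec Q le_rfl (fun y hy => h.ro.normQ' (h.ro.D_le hk.1) hy) x hx (h.mem_Q hx)
    refine ⟨_, mul_mem (inv_mem hy) (nS y hy), _, e, by group, ?_⟩
    have h1 := h.conj_ker (z := y * y) (by rw [map_mul, he _ (h.mem_Q hy)]) κ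
    have h2 := conj_mem_of_le_normalizer' (le_normalizer_commutator_left S S) hy
      (commutator_mem_commutator (nS y hy) (inv_mem hy))
    convert h2 using 1
    calc _ = y⁻¹ * ⁅κ⁻¹ * y * κ, y⁻¹⁆ * y * (y * y)⁻¹ * (κ⁻¹ * (y * y) * κ) := by
          rw [commutatorElement_def]; group
      _ = _ := by rw [h1, inv_mul_cancel_right]
  refine Or.inr ⟨fun e => ?_, fun hc => ?_⟩
  · obtain ⟨x, hx₀, y, hy₀, e'⟩ := hn
    obtain ⟨x, hx, rfl⟩ := h.lift hx₀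
    obtain ⟨y, hy, rfl⟩ := h.lift hy₀
    exact e' (commutatorElement_eq_one_iff_mul_comm.1 (by
      rw [← map_commutatorElement]; exact (e (commutator_mem_commutator hx hy)).2))
  have h1 := h.commutator_inf_ker hn fun w hw => by
    obtain ⟨y, hy, hyZ, e⟩ := dec _ (h.ro.Z_le h.rk) (fun y hy => h.ro.Z_norm' h.rk (h.ro.D_le hk.1) hy)
      w hw.1 hw.2
    rw [← mul_inv_cancel_left (y⁻¹ * (κ⁻¹ * y * κ)) w]
    refine mul_mem (hc _ (mul_mem (inv_mem hy) (nS y hy)) ?_) (mem_centralizer_iff.2 fun v _ => h.comm e.2 v)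
    have h1 := h.conj_ker (z := y * y) (by rw [map_mul, ((h.ro.mem_Z h.rk).1 hyZ).2]) κ
    have h2 := h.W_comm hn ⟨nS y hy, by simpa using h.ro.Z_norm' h.rk (h.ro.D_le hk.1) hyZ⟩
      (inv_mem (show y ∈ S ⊓ (zsub Q).comap f from ⟨hy, hyZ⟩))
    calc _ = y⁻¹ * (κ⁻¹ * y * κ * y⁻¹) * (κ⁻¹ * y * κ) := by group
      _ = (y * y)⁻¹ * (κ⁻¹ * (y * y) * κ) := by rw [h2]; group
      _ = 1 := by rw [h1, inv_mul_cancel]
  refine ⟨eq_bot_iff.2 ((inf_le_inf_left _ inf_le_right).trans h1.le), fun u hu v hv hu1 hv1 => ?_⟩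
  have h2 := (h.ro.mem_Z h.rk).1 (h.commutator_le_Z hn hu)
  have h3 := (h.ro.mem_Z h.rk).1 (h.commutator_le_Z hn hv)
  obtain ⟨l, hl, e⟩ := h.ro.exists_K_conj h2.1 h2.2 (fun e => hu1 (h1.le ⟨hu, e⟩)) h3.1 h3.2
    (fun e => hv1 (h1.le ⟨hv, e⟩))
  obtain ⟨l, rfl⟩ := h.surj l
  have h4 := inv_mem (h.mem_N (h.ro.D_le hl.1))
  refine ⟨l⁻¹, ⟨h4, mem_centralizer_iff.2 fun d hd => (h.comm hd.2 _).symm⟩, mul_inv_eq_one.1 (h1.le
    ⟨(⁅S, S⁆).mul_mem (conj_mem_of_le_normalizer (le_normalizer_commutator le_rfl le_rfl) h4 hu)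
      ((⁅S, S⁆).inv_mem hv), ?_⟩)⟩
  simp [← e]

end Ext

theorem map_ne_of_central {X : Type*} [Group X] {f : G →* X} (hc : f.ker ≤ center G) {S T : Subgroup G}
    (hS : IsSylowIn 2 S ⊤) (hT : IsSylowIn 2 T ⊤) (hne : S ≠ T) : S.map f ≠ T.map f := fun e =>
  hne (hS.maximal T hT.isPGroup le_top (hT.le_of_le_normalizer hS.isPGroup le_top
    ((map_le_iff_le_comap.1 e.le).trans (by
      rw [comap_map_eq]; exact sup_le le_normalizer (hc.trans (center_le_normalizer _)))))).symm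

theorem isSylowIn_map_top {X : Type*} [Group X] {f : G →* X} (hf : Function.Surjective f) {S : Subgroup G}
    (hS : IsSylowIn 2 S ⊤) : IsSylowIn 2 (S.map f) ⊤ := by
  have := hS.map f
  rwa [← MonoidHom.range_eq_map, MonoidHom.range_eq_top.2 hf] at this

theorem exists_ext {S T : Subgroup G} (hS : IsSylowIn 2 S ⊤) (hT : IsSylowIn 2 T ⊤) (hne : S ≠ T)
    (hgen : ∀ N : Subgroup G, N.Normal → S ≤ N → N = ⊤) (hO : pPrimeCore 2 G ≤ center G)
    (hTI : ∀ P Q : Subgroup G, IsSylowIn 2 P ⊤ → IsSylowIn 2 Q ⊤ → P ≠ Q → P ⊓ Q ≤ center G) :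
    IsSimpleGroup (G ⧸ center G) ∧ ∃ H t,
      Ext (QuotientGroup.mk' (center G)) S H (S.map (QuotientGroup.mk' (center G))) t := by
  have hf := QuotientGroup.mk'_surjective (center G)
  have hk := QuotientGroup.ker_mk' (center G)
  set f := QuotientGroup.mk' (center G)
  have hO' : oddCore (G ⧸ center G) = ⊥ := pPrimeCore_eq_bot_of_central hf hk.le (hO.trans hk.ge)
  have hTI' : ∀ P Q : Subgroup (G ⧸ center G), IsSylowIn 2 P ⊤ → IsSylowIn 2 Q ⊤ → P ≠ Q → P ⊓ Q = ⊥ :=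
    fun P Q hP hQ h => by
      obtain ⟨P', Q', hP', hQ', h1, h2⟩ := exists_sylow_lift_inf hf hP hQ h
      exact le_bot_iff.1 (h2.trans ((Subgroup.map_eq_bot_iff _).2 ((hTI _ _ hP' hQ' h1).trans hk.ge)).le)
  have hS' := isSylowIn_map_top hf hS
  have hT' := isSylowIn_map_top hf hT
  have hne' := map_ne_of_central hk.le hS hT hne
  have h1 : S.map f ≠ ⊥ := fun e => hne' (e.trans (card_eq_one.1 (by
    rw [← hS'.card_eq_card hT', e, card_bot])).symm)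
  have hM := Big.stronglyEmbedded_of_ti hTI' hS' h1 fun e => hne' (by
    obtain ⟨g, -, hg⟩ := hS'.exists_conj hT'
    rw [← hg, conj_eq_iff_mem_normalizer.2 (e.ge (mem_top g))])
  have h2 : ¬ PRankLE 2 1 (G ⧸ center G) := fun h2 => by
    obtain ⟨u, -, hu1, hu2⟩ := h9_exists_prime_order_mem hS'.isPGroup h1
    have h3 := zstar_center hO' hu2 fun g hg => by
      by_contra hne
      have hv : (g * u * g⁻¹) ^ 2 = 1 := by rw [conj_pow, hu2]; simp
      obtain ⟨h4, h5⟩ := ea_zpowers_sup (elemAb_zpowers hu2) hv (by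
        rw [centralizer_zpowers]; exact mem_C1.2 hg.eq.symm) (by
        rw [h9_mem_zpowers_two (by rwa [← sq])]; simpa [hne] using hu1)
      have := h2 _ h4.1 h4.2
      rw [h5, Nat.card_zpowers, orderOf_eq_prime hu2 hu1] at this
      omega
    have := pg_normal_zpowers_of_mem_center h3
    have h4 := elemAb_isPGroup (elemAb_zpowers hu2)
    exact hu1 ((hTI' _ _ hS' hT' hne').le ⟨hS'.le_of_normalizes h4 le_top le_normalizer_of_normal
      (mem_zpowers u), hT'.le_of_normalizes h4 le_top le_normalizer_of_normal (mem_zpowers u)⟩)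
  obtain ⟨P, h3, h4, -⟩ := Big.bender_local hO' h2 hM
  obtain ⟨t, h⟩ := exists_RO_of_local hM P h3 h4
  have h5 := rank2_of_not_pRankLE h2 P
  have h6 : (P : Subgroup _) = S.map f := hS'.maximal _ P.isPGroup' le_top
    ((IsSylowIn.of_sylow_top P).le_of_le_normalizer hS'.isPGroup le_top (h3 ▸ le_normalizer))
  rw [h6] at h h5
  have h7 := h.faithful_of_oddCore hO'
  refine ⟨?_, _, t, h, h5, h7, hf, hk.le, hS, rfl⟩
  have h8 := h.isSimpleGroup_sup h5 h7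
  have := h.normal_sup
  have h9 := map_comap_eq_self_of_surjective hf (S.map f ⊔ zpowers t)
  rw [hgen _ inferInstance (map_le_iff_le_comap.1 le_sup_left), ← MonoidHom.range_eq_map,
    MonoidHom.range_eq_top.2 hf] at h9
  rw [← h9] at h8
  exact topEquiv.symm.isSimpleGroup

theorem le_of_sylow_le {S P N : Subgroup G} [N.Normal] (hS : IsSylowIn 2 S ⊤) (hP : IsSylowIn 2 P ⊤)
    (h : S ≤ N) : P ≤ N := by
  obtain ⟨k, -, rfl⟩ := hS.exists_conj hP
  exact map_conj_le_of_mem_normalizer h (le_normalizer_of_normal (mem_top k))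

theorem eq_top_of_le {S : Subgroup G} (hS : IsSylowIn 2 S ⊤) (N : Subgroup (normalClosure (S : Set G)))
    (hN : N.Normal) (h : S.subgroupOf _ ≤ N) : N = ⊤ := by
  suffices e : normalClosure (S : Set G) ≤ N.map (normalClosure (S : Set G)).subtype from
    eq_top_iff.2 fun x _ => by obtain ⟨y, hy, e⟩ := e x.2; rwa [← Subtype.ext e]
  refine (closure_le _).2 fun x hx => ?_
  obtain ⟨s, hs, hx⟩ := Group.mem_conjugatesOfSet_iff.1 hx
  obtain ⟨g, rfl⟩ := isConj_iff.1 hx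
  have h1 := le_of_sylow_le hS (IsSylowIn.conj_top hS g) le_normalClosure
  exact ⟨⟨_, h1 (conj_mem_conj hs g)⟩, le_of_sylow_le (isSylowIn_subgroupOf_top (hS.mono le_normalClosure le_top))
    (isSylowIn_subgroupOf_top ((IsSylowIn.conj_top hS g).mono h1 le_top)) h (conj_mem_conj hs g), rfl⟩

theorem le_center_of_gen {S A : Subgroup G} [A.Normal] (hgen : ∀ N : Subgroup G, N.Normal → S ≤ N → N = ⊤)
    (h : S ≤ C[A]) : A ≤ center G := fun a ha => mem_center_iff.2 fun g =>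
  (mem_centralizer_iff.1 ((hgen _ inferInstance h).ge (mem_top g)) a ha).symm

/-- the structure of the normal closure of a Sylow subgroup -/
theorem CenInt.exists_ext (hC : CenInt G) {S T : Subgroup G} (hS : IsSylowIn 2 S ⊤) (hT : IsSylowIn 2 T ⊤)
    (hne : S ≠ T) (hO : S ≤ C[pPrimeCore 2 G])
    (hA : ∀ P Q : Subgroup G, IsSylowIn 2 P ⊤ → IsSylowIn 2 Q ⊤ → P ≠ Q → P ⊓ Q ≤ pCore 2 G)
    {L : Subgroup G} (hL : L = normalClosure (S : Set G)) :
    IsSimpleGroup (L ⧸ center L) ∧ (S ⊓ T).subgroupOf L = S.subgroupOf L ⊓ center L ∧ ∃ H t,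
      Ext (QuotientGroup.mk' (center L)) (S.subgroupOf L) H
        ((S.subgroupOf L).map (QuotientGroup.mk' (center L))) t := by
  subst hL
  set L := normalClosure (S : Set G)
  have hSL : S ≤ L := le_normalClosure
  have hTL : T ≤ L := le_of_sylow_le hS hT hSL
  have hS' := isSylowIn_subgroupOf_top (hS.mono hSL le_top)
  have hT' := isSylowIn_subgroupOf_top (hT.mono hTL le_top)
  have h1 : (pCore 2 G).subgroupOf L ≤ center L := le_center_of_gen (eq_top_of_le hS) fun x hx =>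
    mem_centralizer_iff.2 fun y hy => Subtype.ext (mem_centralizer_iff.1 (hC S T hS hT hne
      ⟨hS.le_of_normalizes isPGroup_pCore le_top le_normalizer_of_normal hy,
        hT.le_of_normalizes isPGroup_pCore le_top le_normalizer_of_normal hy⟩) x hx).symm
  obtain ⟨h2, h3⟩ := CI2.exists_ext hS' hT' (fun e => hne (by
      rw [← inf_eq_left.2 hSL, ← inf_eq_left.2 hTL]; exact subgroupOf_inj.1 e)) (eq_top_of_le hS)
    (le_center_of_gen (eq_top_of_le hS) fun x hx => mem_centralizer_iff.2 fun y hy => Subtype.ext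
      (mem_centralizer_iff.1 (hO hx) y (pPrimeCoreOf_le_pPrimeCore_of_isSubnormal
        (Normal.isSubnormal inferInstance) ⟨y, hy, rfl⟩))) fun P Q hP hQ h => by
    have key : ∀ {P : Subgroup L}, IsSylowIn 2 P ⊤ → IsSylowIn 2 (P.map L.subtype) ⊤ := fun {P} hP =>
      hS.of_card_ge (hP.isPGroup.map _) le_top (by
        rw [card_map_of_injective L.subtype_injective, hP.card_eq_card hS',
          Nat.card_congr (subgroupOfEquivOfLe hSL).toEquiv])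
    exact fun x hx => h1 (hA _ _ (key hP) (key hQ) (fun e => h (map_injective L.subtype_injective e))
      ⟨⟨x, hx.1, rfl⟩, ⟨x, hx.2, rfl⟩⟩)
  refine ⟨h2, le_antisymm (fun x hx => ⟨hx.1, h1 (hA S T hS hT hne hx)⟩) fun x hx => ⟨hx.1, ?_⟩, h3⟩
  have := pg_normal_zpowers_of_mem_center hx.2
  exact hT'.le_of_normalizes (hS'.isPGroup.to_le (zpowers_le.2 hx.1)) le_top le_normalizer_of_normal
    (mem_zpowers x)

theorem CenInt.loc (hC : CenInt G) {S T : Subgroup G} (hS : IsSylowIn 2 S ⊤) (hT : IsSylowIn 2 T ⊤)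
    (hne : S ≠ T) (hna : ¬ S ≤ C[S]) (hO : S ≤ C[pPrimeCore 2 G])
    (hA : ∀ P Q : Subgroup G, IsSylowIn 2 P ⊤ → IsSylowIn 2 Q ⊤ → P ≠ Q → P ⊓ Q ≤ pCore 2 G) :
    Loc S (S ⊓ T) := by
  obtain ⟨-, h1, H, t, h⟩ := hC.exists_ext hS hT hne hO hA rfl
  have h2 := (h.loc fun e => hna fun x hx => mem_centralizer_iff.2 fun y hy => congrArg Subtype.val
    (mem_centralizer_iff.1 (e (show (⟨x, le_normalClosure hx⟩ : normalClosure (S : Set G)) ∈ _ from hx))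
      ⟨y, le_normalClosure hy⟩ hy)).map (subtype_injective _)
  rwa [QuotientGroup.ker_mk', ← h1, map_subgroupOf_eq_of_le le_normalClosure,
    map_subgroupOf_eq_of_le (inf_le_left.trans le_normalClosure)] at h2

end Cfsg.Lib.CI2
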