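import Cfsg.Agent.Lib.CI2.Loc

/-!
# Groups with central Sylow 2-intersections and nonabelian Sylow 2-subgroups
-/

set_option autoImplicit false

namespace Cfsg.Lib.CI2
open Subgroup Cfsg.Lib Cfsg.Lib.FT Cfsg.Lib.Suz
open scoped commutatorElement

section
variable {G : Type*} [Group G] [Finite G] {S T : Subgroup G}

omit [Finite G] in
theorem CenInt.mem_C (hC : CenInt G) (hS : IsSylowIn 2 S ⊤) {x : G} (hx : x ∈ S) (hU : ¬ UniqSyl x) :
    x ∈ C[S] := by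
  simp only [UniqSyl, not_forall] at hU
  obtain ⟨P, Q, hP, hQ, h1, h2, hne⟩ := hU
  by_cases e : S = P
  · exact hC S Q hS hQ (e ▸ hne) ⟨hx, h2⟩
  · exact hC S P hS hP e ⟨hx, h1⟩

omit [Finite G] in
theorem exists_of_not_uniq (S : Subgroup G) {x : G} (hU : ¬ UniqSyl x) :
    ∃ T, IsSylowIn 2 T ⊤ ∧ S ≠ T ∧ x ∈ T := by
  simp only [UniqSyl, not_forall] at hU
  obtain ⟨P, Q, hP, hQ, h1, h2, hne⟩ := hU
  by_cases e : S = P
  · exact ⟨Q, hQ, e ▸ hne, h2⟩
  · exact ⟨P, hP, e, h1⟩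

omit [Finite G] in
theorem not_uniq_conj {x : G} (hU : ¬ UniqSyl x) (g : G) : ¬ UniqSyl (g * x * g⁻¹) := fun e =>
  hU (by simpa [mul_assoc] using e.conj g⁻¹)

theorem not_le_C_of_sylow (hS : IsSylowIn 2 S ⊤) (hT : IsSylowIn 2 T ⊤) (h : ¬ S ≤ C[S]) : ¬ T ≤ C[T] := by
  obtain ⟨k, -, rfl⟩ := hT.exists_conj hS
  exact fun e => h (by rw [centralizer_map_conj]; exact map_mono e)

theorem CenInt.mem_C_of_sq (hC : CenInt G) (hS : IsSylowIn 2 S ⊤) (hQ : pCore 2 G ≤ center G) {a : G}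
    (ha : a ∈ S) (haU : ¬ UniqSyl a) (ha1 : a ∉ center G) (ha2 : a * a ∈ center G) {x : G} (hx : x ∈ S)
    (hx2 : x * x ∈ center G) : x ∈ C[S] := by
  by_contra hxS
  have hf := QuotientGroup.mk'_surjective (center G)
  have hk := QuotientGroup.ker_mk' (center G)
  set f := QuotientGroup.mk' (center G)
  have uq : ∀ y ∈ S, y ∉ C[S] → UniqSyl (f y) := fun y hy hyS => by
    have key : ∀ {P}, IsSylowIn 2 P ⊤ → f y ∈ P → P = S.map f := fun hP h => by
      obtain ⟨P', hP', h1, rfl⟩ := exists_sylow_lift hf hP (hS.isPGroup.to_le (zpowers_le.2 hy))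
        (by rwa [MonoidHom.map_zpowers, zpowers_le])
      by_contra e
      exact hyS (hC S P' hS hP' (fun e' => e (by rw [e'])) ⟨hy, h1 (mem_zpowers y)⟩)
    exact fun P Q hP hQ h1 h2 => (key hP h1).trans (key hQ h2).symm
  have h1 := mem_pCore_of_uniq (isSylowIn_map_top hf hS) (mem_map_of_mem f hx)
    (by rwa [← map_mul, ← MonoidHom.mem_ker, hk]) (uq x hx hxS) (d := f a)
    (by rwa [← map_mul, ← MonoidHom.mem_ker, hk]) fun g hg => by
      obtain ⟨g, rfl⟩ := hf g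
      rw [← map_inv, ← map_mul, ← map_mul] at hg ⊢
      have h2 : g * a * g⁻¹ ∈ S := hS.le_of_le_normalizer
        ((hS.isPGroup.map (MulAut.conj g).toMonoidHom).to_le (zpowers_le.2 (conj_mem_conj ha g))) le_top
        (zpowers_le.2 (sup_le le_normalizer (hk.le.trans (center_le_normalizer _))
          (by rwa [← comap_map_eq]))) (mem_zpowers _)
      rw [← map_mul]
      exact uq _ (mul_mem hx h2) fun e => hxS
        ((mul_mem_cancel_right (hC.mem_C hS h2 (not_uniq_conj haU g))).1 e)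
  rw [pCore_eq_bot_of_central hf hk.le (hQ.trans hk.ge), mem_bot, ← MonoidHom.mem_ker, hk] at h1
  exact ha1 h1

theorem not_fixed (hS : IsSylowIn 2 S ⊤) (hO : pPrimeCore 2 G = ⊥) (hZ : center G = ⊥)
    (hc : ∀ x ∈ S, x * x = 1 → x ∈ C[S]) {v : G} (hv : v ∈ S) (hv2 : orderOf v = 2) : ¬ N[S] ≤ C1[v] := by
  intro h
  obtain ⟨P, rfl⟩ := hS.exists_sylow_top
  refine ne_one_of_orderOf_two hv2 (mem_bot.1 (hZ ▸ zstar_center hO (sq_eq_one_of_orderOf hv2)
    (isIsolated_of_sylow P hv fun g hg => ?_)))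
  have h1 : g •ᶜ (P : Subgroup G) ≤ C1[g * v * g⁻¹] := by
    rw [← conj_centralizer_singleton]; exact map_mono (le_normalizer.trans h)
  obtain ⟨c, hc, e⟩ := ((IsSylowIn.conj_top hS g).mono h1 le_top).exists_conj
    (hS.mono (le_C1_iff.2 (hc _ hg (ci_mul_self (ci_orderOf_conj hv2 g)))) le_top)
  have h2 := mem_C1.1 (h (conj_eq_iff_mem_normalizer.1 (show (c * g) •ᶜ (P : Subgroup G) = P by
    rw [← conj_conj]; exact e)))
  calc g * v * g⁻¹ = c * (g * v * g⁻¹) * c⁻¹ := by rw [mem_C1.1 hc]; group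
    _ = c * g * v * (c * g)⁻¹ := by group
    _ = v := by rw [h2]; group

theorem not_isCyclic_commutator (hS : IsSylowIn 2 S ⊤) (hO : pPrimeCore 2 G = ⊥) (hZ : center G = ⊥)
    (hc : ∀ x ∈ S, x * x = 1 → x ∈ C[S]) (hna : ¬ S ≤ C[S]) : ¬ IsCyclic ↥⁅S, S⁆ := fun h => by
  obtain ⟨v, hv, hv1, hv2⟩ := h9_exists_prime_order_mem (hS.isPGroup.to_le (commutator_le_self S))
    (mt commutator_eq_bot_iff_le_centralizer.1 hna)
  have h1 := orderOf_eq_prime hv2 hv1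
  refine not_fixed hS hO hZ hc (commutator_le_self S hv) h1 fun n hn => mem_C1.2 ?_
  rw [← mul_inv_eq_iff_eq_mul]
  exact ci_invol_eq h (conj_mem_of_le_normalizer (le_normalizer_commutator le_rfl le_rfl) hn hv) hv
    (ci_orderOf_conj h1 n) h1

theorem uniq_of_loc (hS : IsSylowIn 2 S ⊤) (hO : pPrimeCore 2 G = ⊥) (hZ : center G = ⊥)
    (hQ : pCore 2 G = ⊥) (hc : ∀ x ∈ S, x * x = 1 → x ∈ C[S]) (hna : ¬ S ≤ C[S])
    (loc : ∀ T, IsSylowIn 2 T ⊤ → S ≠ T → S ⊓ T ≠ ⊥ → Loc S (S ⊓ T)) {a : G} (ha2 : a * a = 1)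
    (ha1 : a ≠ 1) : UniqSyl a := by
  by_contra haU
  have hcyc := not_isCyclic_commutator hS hO hZ hc hna
  have key : ∀ b ∈ S, b ≠ 1 → ¬ UniqSyl b → b ∉ ⁅S, S⁆ ∧
      ∀ u ∈ ⁅S, S⁆, ∀ v ∈ ⁅S, S⁆, u ≠ 1 → v ≠ 1 → ∃ l ∈ N[S] ⊓ C1[b], l * u * l⁻¹ = v := by
    intro b hb hb1 hU
    obtain ⟨T, hT, hne, hbT⟩ := exists_of_not_uniq S hU
    obtain ⟨h1, h2⟩ := ((loc T hT hne fun e => hb1 (e.le ⟨hb, hbT⟩)).resolve_left fun e => hcyc e.1).2 hc
    exact ⟨fun e => hb1 (h1.le ⟨e, hb, hbT⟩), fun u hu v hv hu1 hv1 => (h2 u hu v hv hu1 hv1).imp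
      fun l hl => ⟨⟨hl.1.1, centralizer_le_singleton (show b ∈ S ⊓ T from ⟨hb, hbT⟩) hl.1.2⟩, hl.2⟩⟩
  have hS' := commutator_le_self S
  obtain ⟨v, hv, hv1, hv2⟩ := h9_exists_prime_order_mem (hS.isPGroup.to_le hS')
    (mt commutator_eq_bot_iff_le_centralizer.1 hna)
  rw [sq] at hv2
  have hvU : UniqSyl v := by_contra fun e => (key v (hS' hv) hv1 e).1 hv
  refine ha1 (mem_bot.1 (hQ ▸ mem_pCore_of_uniq hS (hS' hv) hv2 hvU ha2 fun g hg => ?_))
  have h1 := not_uniq_conj haU g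
  have h2 : g * a * g⁻¹ * (g * a * g⁻¹) = 1 := by rw [conj_mul, ha2]; simp
  have h3 : g * a * g⁻¹ ≠ 1 := by simpa using ha1
  generalize g * a * g⁻¹ = b at hg h1 h2 h3
  by_contra h4
  obtain ⟨hb, tb⟩ := key b hg h3 h1
  have ne : ∀ u ∈ ⁅S, S⁆, u * b ≠ 1 := fun u hu e => hb (by
    rw [eq_inv_of_mul_eq_one_right e]; exact inv_mem hu)
  obtain ⟨w, hw, hwv⟩ := SetLike.not_le_iff_exists.1 (mt (isCyclic_of_le (inferInstance : IsCyclic (zpowers v))) hcyc)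
  rw [h9_mem_zpowers_two hv2, not_or] at hwv
  obtain ⟨l, hl, rfl⟩ := tb v hv w hw hv1 hwv.1
  have h5 : ¬ UniqSyl (l * v * l⁻¹ * b) := by
    have := not_uniq_conj h4 l
    rwa [← mul_assoc, mul_assoc _ b, ← (Commute.inv_left (mem_C1.1 hl.2)).eq, ← mul_assoc] at this
  have h6 : l * v * l⁻¹ * (l * v * l⁻¹) = 1 := by rw [conj_mul, hv2]; simp
  generalize l * v * l⁻¹ = w at hw hwv h5 h6
  have h7 : v * w ≠ 1 := fun e => hwv.2 (by
    rw [eq_inv_of_mul_eq_one_right e]; exact inv_eq_of_mul_eq_one_right hv2)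
  obtain ⟨l₁, hl₁, e1⟩ := (key _ (mul_mem (hS' hw) hg) (ne w hw) h5).2 w hw _ (mul_mem hv hw) hwv.1 h7
  have e2 : l₁ * b * l₁⁻¹ = v * b := by
    calc _ = (l₁ * w * l₁⁻¹) * (l₁ * (w * b)) * l₁⁻¹ := by
          rw [← one_mul b, ← h6]; simp only [mul_assoc, inv_mul_cancel_left]
          rw [← mul_assoc w w, h6, one_mul, ← mul_assoc w w, h6, one_mul]
      _ = v * (w * w) * b := by rw [e1, mem_C1.1 hl₁.2]; group
      _ = _ := by rw [h6, mul_one]
  have h8 := conj_mem_of_le_normalizer (le_normalizer_commutator le_rfl le_rfl) hl₁.1 hv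
  obtain ⟨l₂, hl₂, e3⟩ := (key _ (mul_mem (hS' hv) hg) (ne v hv) h4).2 _ h8 v hv (by simpa using hv1) hv1
  have e4 : l₂ * l₁ * b * (l₂ * l₁)⁻¹ = v * b := by
    calc _ = l₂ * (l₁ * b * l₁⁻¹) * l₂⁻¹ := by group
      _ = _ := by rw [e2, mem_C1.1 hl₂.2]; group
  have e5 : l₂ * l₁ * (v * b) * (l₂ * l₁)⁻¹ = b := by
    calc _ = (l₂ * (l₁ * v * l₁⁻¹) * l₂⁻¹) * (l₂ * l₁ * b * (l₂ * l₁)⁻¹) := by group
      _ = _ := by rw [e3, e4, ← mul_assoc, hv2, one_mul]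
  have h9 := mem_C1.1 (IsSylowIn.mem_of_sq_mem hS (le_C1_iff.2 (hc b hg h2)) (mul_mem hl₂.1 hl₁.1)
    (mem_C1.2 (by
      calc _ = l₂ * l₁ * (l₂ * l₁ * b * (l₂ * l₁)⁻¹) * (l₂ * l₁)⁻¹ * (l₂ * l₁) ^ 2 := by rw [sq]; group
        _ = _ := by rw [e4, e5])))
  rw [h9, mul_inv_cancel_right, eq_comm, mul_eq_right] at e4
  exact hv1 e4

end

universe u

theorem inf_le_pCore_aux (n : ℕ) : ∀ {G : Type u} [Group G] [Finite G], Nat.card G = n → CenInt G →
    ∀ {S T : Subgroup G}, IsSylowIn 2 S ⊤ → IsSylowIn 2 T ⊤ → S ≠ T → ¬ S ≤ C[S] →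
      S ≤ C[pPrimeCore 2 G] → S ⊓ T ≤ pCore 2 G := by
  induction n using Nat.strong_induction_on with | _ n ih => ?_
  intro G _ _ hn hC S T hS hT hne hna hO
  have sub : ∀ X : Subgroup G, X ≠ ⊤ → S ≤ X → S ≤ C[(pPrimeCore 2 X).map X.subtype] →
      ¬ S.subgroupOf X ≤ C[S.subgroupOf X] ∧ S.subgroupOf X ≤ C[pPrimeCore 2 X] ∧
      ∀ P Q : Subgroup X, IsSylowIn 2 P ⊤ → IsSylowIn 2 Q ⊤ → P ≠ Q → P ⊓ Q ≤ pCore 2 X := by
    intro X hX hSX h
    have h1 : ¬ S.subgroupOf X ≤ C[S.subgroupOf X] := fun e => hna fun x hx =>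
      mem_centralizer_iff.2 fun y hy => congrArg Subtype.val
        (mem_centralizer_iff.1 (e (show (⟨x, hSX hx⟩ : X) ∈ _ from hx)) ⟨y, hSX hy⟩ hy)
    have h2 : S.subgroupOf X ≤ C[pPrimeCore 2 X] := fun x hx => mem_centralizer_iff.2 fun y hy =>
      Subtype.ext (mem_centralizer_iff.1 (h hx) y ⟨y, hy, rfl⟩)
    have h3 := isSylowIn_subgroupOf_top (hS.mono hSX le_top)
    exact ⟨h1, h2, fun P Q hP hQ e => ih _ (by
      rw [← hn, ← card_top (G := G)]; exact pg_card_lt_of_lt (lt_top_iff_ne_top.2 hX)) rfl (hC.subgroup X)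
      hP hQ e (not_le_C_of_sylow h3 hP h1) (le_of_sylow_le h3 hP h2)⟩
  have ne' : ∀ {X T : Subgroup G}, S ≤ X → T ≤ X → S ≠ T → S.subgroupOf X ≠ T.subgroupOf X :=
    fun h1 h2 h3 e => h3 (by rw [← inf_eq_left.2 h1, ← inf_eq_left.2 h2]; exact subgroupOf_inj.1 e)
  by_cases hL : normalClosure (S : Set G) ≠ ⊤
  · have h1 : S ≤ normalClosure (S : Set G) := le_normalClosure
    have h2 := le_of_sylow_le hS hT h1
    exact fun x hx => pCoreOf_le_pCore_of_isSubnormal (Normal.isSubnormal inferInstance)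
      ⟨⟨x, h1 hx.1⟩, (sub _ hL h1 (hO.trans (centralizer_le (pPrimeCoreOf_le_pPrimeCore_of_isSubnormal
        (Normal.isSubnormal inferInstance))))).2.2 _ _ (isSylowIn_subgroupOf_top (hS.mono h1 le_top))
        (isSylowIn_subgroupOf_top (hT.mono h2 le_top)) (ne' h1 h2 hne) hx, rfl⟩
  have hgen : ∀ N : Subgroup G, N.Normal → S ≤ N → N = ⊤ := fun N _ h =>
    eq_top_iff.2 ((not_not.1 hL).ge.trans (normalClosure_le_normal h))
  have hOZ := le_center_of_gen hgen hO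
  have hQZ : pCore 2 G ≤ center G := le_center_of_gen hgen (le_centralizer_iff.1 ((le_inf
    (hS.le_of_normalizes isPGroup_pCore le_top le_normalizer_of_normal)
    (hT.le_of_normalizes isPGroup_pCore le_top le_normalizer_of_normal)).trans (hC S T hS hT hne)))
  suffices h : S ⊓ T ≤ center G from le_pCore ⟨fun x hx g => by
    rwa [mem_center_iff.1 (h hx) g, mul_inv_cancel_right]⟩ (hS.isPGroup.to_le inf_le_left)
  have hf := QuotientGroup.mk'_surjective (center G)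
  have hk := QuotientGroup.ker_mk' (center G)
  set f := QuotientGroup.mk' (center G)
  by_cases hq : center G ≠ ⊥ ∧ ¬ S.map f ≤ C[S.map f]
  · have := ih _ (by
      rw [← hn, ← (center G).card_mul_index]
      exact lt_mul_of_one_lt_left Nat.card_pos ((one_lt_card_iff_ne_bot _).2 hq.1)) rfl
      (hC.of_surjective hf) (isSylowIn_map_top hf hS) (isSylowIn_map_top hf hT)
      (map_ne_of_central hk.le hS hT hne) hq.2 (by
        rw [pPrimeCore_eq_bot_of_central hf hk.le (hOZ.trans hk.ge)]; exact le_centralizer_iff.1 bot_le)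
    rw [pCore_eq_bot_of_central hf hk.le (hQZ.trans hk.ge)] at this
    exact fun x hx => hk.le (this ⟨mem_map_of_mem f hx.1, mem_map_of_mem f hx.2⟩)
  replace hq : center G = ⊥ ∨ ⁅S, S⁆ ≤ center G := by
    rw [← hk, ← Subgroup.map_eq_bot_iff, map_commutator, commutator_eq_bot_iff_le_centralizer, hk]
    tauto
  by_contra h
  obtain ⟨a, ha, ha1, ha2⟩ : ∃ a ∈ S ⊓ T, a ∉ center G ∧ a * a ∈ center G := by
    obtain ⟨_, ⟨a, ha, rfl⟩, h1, h2⟩ := h9_exists_prime_order_mem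
      ((hS.isPGroup.to_le (inf_le_left (b := T))).map f) (mt (Subgroup.map_eq_bot_iff _).1 (by rwa [hk]))
    exact ⟨a, ha, fun e => h1 (hk.ge e), hk.le (by rwa [MonoidHom.mem_ker, ← sq, map_pow])⟩
  have haU : ¬ UniqSyl a := fun e => hne (e _ _ hS hT ha.1 ha.2)
  have hc := fun x => hC.mem_C_of_sq hS hQZ ha.1 haU ha1 ha2 (x := x)
  have hc' : ∀ x ∈ S, x * x = 1 → x ∈ C[S] := fun x hx e => hc x hx (e ▸ one_mem _)
  have loc : ∀ T, IsSylowIn 2 T ⊤ → S ≠ T → ∀ b ∈ S ⊓ T, b ∉ center G → Loc S (S ⊓ T) := by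
    intro T hT hne b hb hb1
    have h1 : S ≤ C1[b] := le_C1_iff.2 (hC S T hS hT hne hb)
    have h2 : T ≤ C1[b] := le_C1_iff.2 (hC T S hT hS hne.symm ⟨hb.2, hb.1⟩)
    obtain ⟨h3, h4, h5⟩ := sub C1[b] (fun e => hb1 (mem_center_iff.2 fun g => mem_C1.1 (e.ge (mem_top g))))
      h1 (by
        by_contra e
        obtain ⟨h3, h4⟩ := hC.isCyclic_commutator hS hna (by
          rw [card_map_of_injective (subtype_injective _)]; exact not_dvd_card_pPrimeCore)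
          (h1.trans (le_normalizer_map_subtype _)) e
        rcases hq with hq | hq
        · exact not_isCyclic_commutator hS (le_bot_iff.1 (hq ▸ hOZ)) hq hc' hna h3
        · exact h4 (hq.trans (center_le_centralizer _)))
    have := ((hC.subgroup _).loc (isSylowIn_subgroupOf_top (hS.mono h1 le_top))
      (isSylowIn_subgroupOf_top (hT.mono h2 le_top)) (ne' h1 h2 hne) h3 h4 h5).map (subtype_injective _)
    rwa [subgroupOf, subgroupOf, ← comap_inf, ← subgroupOf, ← subgroupOf, map_subgroupOf_eq_of_le h1,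
      map_subgroupOf_eq_of_le (inf_le_left.trans h1)] at this
  rcases hq with hq | hq
  · refine haU (uniq_of_loc hS (le_bot_iff.1 (hq ▸ hOZ)) hq (le_bot_iff.1 (hq ▸ hQZ)) hc' hna
      (fun T hT hne e => ?_) (hq.le ha2) fun e => ha1 (e ▸ one_mem _))
    obtain ⟨b, hb⟩ := ne_bot_iff_exists_ne_one.1 e
    exact loc T hT hne b b.2 fun e => hb (Subtype.ext (hq.le e))
  · rcases loc T hT hne a ha ha1 with ⟨-, h1⟩ | ⟨h1, -⟩
    · refine hna fun x hx => ?_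
      obtain ⟨z, hz, d, hd, rfl, e⟩ := h1 x hx
      exact mul_mem (hc z hz (hq e)) (hC S T hS hT hne hd)
    · refine h1 (le_inf (commutator_le_self S) fun x hx => ?_)
      have := pg_normal_zpowers_of_mem_center (hq hx)
      exact hT.le_of_normalizes (hS.isPGroup.to_le (zpowers_le.2 (commutator_le_self S hx))) le_top
        le_normalizer_of_normal (mem_zpowers x)

variable {G : Type*} [Group G] [Finite G]

/-- nonabelian Sylow subgroups: the Sylow intersections lie in `O₂` -/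
theorem CenInt.inf_le_pCore (hC : CenInt G) {S : Subgroup G} (hS : IsSylowIn 2 S ⊤) (hna : ¬ S ≤ C[S])
    (hO : S ≤ C[pPrimeCore 2 G]) (P Q : Subgroup G) (hP : IsSylowIn 2 P ⊤) (hQ : IsSylowIn 2 Q ⊤)
    (hne : P ≠ Q) : P ⊓ Q ≤ pCore 2 G :=
  inf_le_pCore_aux _ rfl hC hP hQ hne (not_le_C_of_sylow hS hP hna) (le_of_sylow_le hS hP hO)

/-- a simple group with central Sylow intersections and nonabelian Sylow 2-subgroups -/
theorem simple_nonabelian [IsSimpleGroup G] (hC : CenInt G) (S : Sylow 2 G)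
    (hna : ¬ IsMulCommutative (S : Subgroup G)) :
    (∃ m, 1 ≤ m ∧ Big.IsoSz G m) ∨ ∃ n, 2 ≤ n ∧ Big.IsoPSU3 G (2 ^ n) := by
  have hS := IsSylowIn.of_sylow_top S
  have hG : ¬ IsMulCommutative G := fun e => hna inferInstance
  have h1 : (S : Subgroup G) ≠ ⊥ := fun e => hna (e ▸ inferInstance)
  have he : Even (Nat.card G) := even_iff_two_dvd.2
    ((dvd_card_of_isPGroup_of_ne_bot S.isPGroup' h1).trans (card_subgroup_dvd_card _))
  have h2 := oddCore_eq_bot_of_simple he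
  have h3 : ∀ N : Subgroup G, N.Normal → IsPGroup 2 N → N = ⊥ := fun N hN h =>
    hN.eq_bot_or_eq_top.resolve_right fun e => hG ⟨⟨IsSimpleGroup.comm_iff_isSolvable.2
      (isSolvable_of_isPGroup ((e ▸ h).of_equiv topEquiv))⟩⟩
  have hM := Big.stronglyEmbedded_of_ti (fun P Q hP hQ e => le_bot_iff.1 (h3 _ inferInstance isPGroup_pCore ▸
    hC.inf_le_pCore hS (mt le_centralizer_iff_isMulCommutative.1 hna) (by
      rw [show pPrimeCore 2 G = ⊥ from h2]; exact le_centralizer_iff.1 bot_le) P Q hP hQ e)) hS h1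
    fun e => h1 (h3 _ (normalizer_eq_top_iff.1 e) S.isPGroup')
  have h4 := not_pRankLE_of_simple hG he
  obtain ⟨P, h5, h6, -⟩ := Big.bender_local h2 h4 hM
  obtain ⟨t, h⟩ := exists_RO_of_local hM P h5 h6
  have h7 := rank2_of_not_pRankLE h4 P
  obtain ⟨hp, he | ⟨hn, hc | ⟨hc, d, hd, hd1, hd2⟩⟩⟩ := h.concl h7
  · exact absurd (fun x hx => mem_centralizer_iff.2 fun y hy => (h.invol_central h7 hx (he x hx) hy).symm)
      (not_le_C_of_sylow hS (.of_sylow_top P) (mt le_centralizer_iff_isMulCommutative.1 hna))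
  · exact Or.inl ((h.isoSz h7 hp hn hc).imp fun _ h => ⟨h.1, h.2.2⟩)
  · exact Or.inr ((h.isoPSU3 h7 hp hn hc ⟨d, h.mem_W.2 ⟨hd, hd1⟩, hd2⟩).imp fun _ h => ⟨h.1, h.2.2⟩)

end Cfsg.Lib.CI2
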